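import Mathlib
import Cfsg.Agent.Lib.ThreeT.F24A7.W7
import Cfsg.Agent.Lib.ThreeT.F24A7.Abs
import Cfsg.Agent.Lib.OrthRefl.Basic

/-!
# The stabilizer of a line of norm `-1` in the reflection group of the seven-dimensional form

The stabilizer in `W` of the line spanned by `v0 = e0 + e1` is isomorphic to the full isometry group of the elliptic
form in dimension six.
-/

set_option autoImplicit false
set_option linter.style.longLine false
set_option linter.unusedVariables false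
set_option linter.unusedSectionVars false

namespace Cfsg.Agent.Lib.ThreeT.F24A7.M6

open Cfsg Cfsg.Agent.Lib.Reflect.Basic Cfsg.Agent.Lib.OrthRefl.Basic Cfsg.Agent.Lib.Orth.Bridge Cfsg.Agent.Lib.Orth.Refl Cfsg.Agent.Lib.Orth.Spin Cfsg.Agent.Lib.Witt.Quadratic QuadraticMap Matrix Cfsg.Agent.Lib.ThreeT.F24A7.W7 Cfsg.Agent.Lib.ThreeT.F24A7.Abs

/-- Index type. -/
abbrev I6 := (Fin 2 ⊕ Fin 2) ⊕ Fin 2
/-- The six-dimensional space. -/
abbrev U := I6 → ZMod 3
/-- The elliptic form. -/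
abbrev Qm : U → ZMod 3 := quadFormMinus 2 (ZMod 3) 0 1

/-- The vector. -/
def v0 : V := ![1, 1, 0, 0, 0, 0, 0]

theorem three0 : (3 : ZMod 3) = 0 := by decide

theorem ip_v0 (y : V) : ip v0 y = y 0 + y 1 := by
  simp [ip, v0]

theorem ip_v0_v0 : ip v0 v0 = -1 := by decide

/-- The inclusion of the orthogonal complement. -/
def iot : U →ₗ[ZMod 3] V where
  toFun x := ![x (.inl (.inl 0)) - x (.inl (.inr 0)), x (.inl (.inr 0)) - x (.inl (.inl 0)), -x (.inl (.inl 0)) - x (.inl (.inr 0)), -x (.inl (.inl 1)) - x (.inl (.inr 1)), x (.inr 0), x (.inr 1), x (.inl (.inl 1)) - x (.inl (.inr 1))]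
  map_add' x y := by
    funext i
    fin_cases i <;> simp <;> ring
  map_smul' a x := by
    funext i
    fin_cases i <;> simp <;> ring

/-- The projection. -/
def prj : V →ₗ[ZMod 3] U where
  toFun y := Sum.elim (Sum.elim ![y 2 - (y 1 - y 0), y 3 - y 6] ![y 2 + (y 1 - y 0), y 3 + y 6]) ![y 4, y 5]
  map_add' x y := by
    funext i
    rcases i with (i | i) | i <;> fin_cases i <;> simp <;> ring
  map_smul' a x := by
    funext i
    rcases i with (i | i) | i <;> fin_cases i <;> simp <;> ring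

theorem prj_iot (x : U) : prj (iot x) = x := by
  funext i
  rcases i with (i | i) | i <;> fin_cases i <;> simp [prj, iot]
  · linear_combination (-(x (.inl (.inr 0)))) * three0
  · linear_combination (-(x (.inl (.inl 1)))) * three0
  · linear_combination (-(x (.inl (.inl 0)))) * three0
  · linear_combination (-(x (.inl (.inr 1)))) * three0

theorem iot_prj (y : V) : iot (prj y) = y + ip v0 y • v0 := by
  rw [ip_v0]
  funext i
  fin_cases i <;> simp [prj, iot, v0]
  · linear_combination (-(y 1)) * three0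
  · linear_combination (-(y 0)) * three0
  · linear_combination (-(y 2)) * three0
  · linear_combination (-(y 3)) * three0
  · linear_combination (-(y 6)) * three0

theorem prj_v0 : prj v0 = 0 := by
  funext i
  rcases i with (i | i) | i <;> fin_cases i <;> simp [prj, v0]

theorem ip_v0_iot (x : U) : ip v0 (iot x) = 0 := by
  rw [ip_v0]
  simp [iot]

theorem Q7_iot_add (x : U) (t : ZMod 3) : Q7 (iot x + t • v0) = Qm x - t * t := by
  rw [Q7_apply]
  simp [ip, iot, v0, quadFormMinus, Fin.sum_univ_two]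
  linear_combination (x (.inl (.inl 0)) * x (.inl (.inl 0)) - x (.inl (.inl 0)) * x (.inl (.inr 0)) + x (.inl (.inr 0)) * x (.inl (.inr 0)) + t * t + x (.inl (.inl 1)) * x (.inl (.inr 1))) * three0

theorem Q7_iot (x : U) : Q7 (iot x) = Qm x := by
  have h := Q7_iot_add x 0
  simpa using h

theorem y_eq (y : V) : y = iot (prj y) + (- ip v0 y) • v0 := by
  rw [iot_prj]
  simp

theorem Q7_eq (y : V) : Q7 y = Qm (prj y) - ip v0 y * ip v0 y := by
  conv_lhs => rw [y_eq y]
  rw [Q7_iot_add]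
  ring

/-! ### Isometries -/

/-- The isometry group. -/
noncomputable abbrev G7 := isometryGroup (ZMod 3) (⇑Q7)

theorem act_add' (g : G7) (x y : V) : act g (x + y) = act g x + act g y := Matrix.mulVec_add _ _ _

theorem act_smul' (g : G7) (a : ZMod 3) (x : V) : act g (a • x) = a • act g x := Matrix.mulVec_smul _ _ _

theorem act_neg' (g : G7) (x : V) : act g (-x) = - act g x := Matrix.mulVec_neg _ _

theorem Q7_act (g : G7) (x : V) : Q7 (act g x) = Q7 x := (mem_isometryGroup_iff _ _).mp g.2 x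

theorem ip_act (g : G7) (x y : V) : ip (act g x) (act g y) = ip x y := by
  have h : polar (⇑Q7) (act g x) (act g y) = polar (⇑Q7) x y := by
    simp only [QuadraticMap.polar, ← act_add', Q7_act]
  rw [polar_Q7, polar_Q7] at h
  exact neg_injective h

/-- The line of `v0` is stable. -/
def Ln (g : G7) : Prop := act g v0 = v0 ∨ act g v0 = -v0

theorem Ln_one : Ln 1 := Or.inl (act_one _)

theorem Ln_mul {g h : G7} (hg : Ln g) (hh : Ln h) : Ln (g * h) := by
  unfold Ln
  rw [act_mul]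
  rcases hh with hh | hh <;> rcases hg with hg | hg <;> rw [hh]
  · exact Or.inl hg
  · exact Or.inr hg
  · rw [act_neg', hg]; exact Or.inr rfl
  · rw [act_neg', hg, neg_neg]; exact Or.inl rfl

theorem act_inv_act (g : G7) (x : V) : act g⁻¹ (act g x) = x := by
  rw [← act_mul, inv_mul_cancel, act_one]

theorem act_act_inv (g : G7) (x : V) : act g (act g⁻¹ x) = x := by
  rw [← act_mul, mul_inv_cancel, act_one]

theorem Ln_inv {g : G7} (hg : Ln g) : Ln g⁻¹ := by
  have h := act_inv_act g v0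
  rcases hg with hg | hg
  · rw [hg] at h
    exact Or.inl h
  · rw [hg, act_neg'] at h
    exact Or.inr (neg_eq_iff_eq_neg.mp h)

/-- The stabilizer of the line of `v0` in the reflection group. -/
noncomputable def Stab : Subgroup W where
  carrier := {g | Ln (g : G7)}
  mul_mem' := fun ha hb => Ln_mul ha hb
  one_mem' := Ln_one
  inv_mem' := fun ha => Ln_inv ha

theorem ip_v0_act {g : G7} (hg : Ln g) {y : V} (hy : ip v0 y = 0) : ip v0 (act g y) = 0 := by
  have h := ip_act g v0 y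
  rcases hg with hg | hg
  · rw [hg] at h
    rw [h, hy]
  · rw [hg, ip_neg_left, hy, neg_eq_zero] at h
    exact h

/-- The induced map. -/
noncomputable def phL (g : G7) : U →ₗ[ZMod 3] U :=
  prj ∘ₗ (Matrix.mulVecLin ((g : GL (Fin 7) (ZMod 3)) : Matrix (Fin 7) (Fin 7) (ZMod 3))) ∘ₗ iot

theorem phL_apply (g : G7) (x : U) : phL g x = prj (act g (iot x)) := rfl

theorem iot_phL {g : G7} (hg : Ln g) (x : U) : iot (phL g x) = act g (iot x) := by
  rw [phL_apply, iot_prj, ip_v0_act hg (ip_v0_iot x)]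
  simp

theorem phL_mul (g : G7) {h : G7} (hh : Ln h) (x : U) : phL (g * h) x = phL g (phL h x) := by
  rw [phL_apply, phL_apply g, iot_phL hh, act_mul]

theorem phL_one (x : U) : phL 1 x = x := by
  rw [phL_apply, act_one, prj_iot]

theorem Qm_phL {g : G7} (hg : Ln g) (x : U) : Qm (phL g x) = Qm x := by
  rw [← Q7_iot, iot_phL hg, Q7_act, Q7_iot]

/-- A matrix unit from a linear map and its inverse. -/
noncomputable def mkU {ι : Type} [Fintype ι] [DecidableEq ι] (f f' : (ι → ZMod 3) →ₗ[ZMod 3] (ι → ZMod 3))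
    (h1 : ∀ x, f (f' x) = x) (h2 : ∀ x, f' (f x) = x) : GL ι (ZMod 3) where
  val := LinearMap.toMatrix' f
  inv := LinearMap.toMatrix' f'
  val_inv := by
    rw [← LinearMap.toMatrix'_comp, show f ∘ₗ f' = LinearMap.id from LinearMap.ext h1, LinearMap.toMatrix'_id]
  inv_val := by
    rw [← LinearMap.toMatrix'_comp, show f' ∘ₗ f = LinearMap.id from LinearMap.ext h2, LinearMap.toMatrix'_id]

theorem mkU_mulVec {ι : Type} [Fintype ι] [DecidableEq ι] (f f' : (ι → ZMod 3) →ₗ[ZMod 3] (ι → ZMod 3))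
    (h1 : ∀ x, f (f' x) = x) (h2 : ∀ x, f' (f x) = x) (x : ι → ZMod 3) :
    ((mkU f f' h1 h2 : GL ι (ZMod 3)) : Matrix ι ι (ZMod 3)) *ᵥ x = f x :=
  LinearMap.toMatrix'_mulVec f x

theorem phL_r (g : G7) (hg : Ln g) (x : U) : phL g (phL g⁻¹ x) = x := by
  rw [← phL_mul _ (Ln_inv hg), mul_inv_cancel, phL_one]

theorem phL_l (g : G7) (hg : Ln g) (x : U) : phL g⁻¹ (phL g x) = x := by
  rw [← phL_mul _ hg, inv_mul_cancel, phL_one]

/-- The induced element. -/
noncomputable def phG (g : Stab) : isometryGroup (ZMod 3) Qm :=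
  ⟨mkU (phL ((g : W) : G7)) (phL (((g : W) : G7)⁻¹)) (phL_r _ g.2) (phL_l _ g.2),
    (mem_isometryGroup_iff _ _).mpr (fun x => by rw [mkU_mulVec, Qm_phL g.2])⟩

theorem phG_mulVec (g : Stab) (x : U) : (((phG g : isometryGroup (ZMod 3) Qm) : GL I6 (ZMod 3)) : Matrix I6 I6 (ZMod 3)) *ᵥ x = phL ((g : W) : G7) x :=
  mkU_mulVec (phL ((g : W) : G7)) (phL (((g : W) : G7)⁻¹)) (phL_r _ g.2) (phL_l _ g.2) x

/-- The map to the isometry group of the elliptic form. -/
noncomputable def Phi : Stab →* isometryGroup (ZMod 3) Qm where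
  toFun := phG
  map_one' := by
    apply Subtype.ext
    apply Units.ext
    apply Matrix.mulVec_injective
    funext x
    change ((phG 1 : isometryGroup (ZMod 3) Qm) : GL I6 (ZMod 3)).val *ᵥ x = (1 : Matrix I6 I6 (ZMod 3)) *ᵥ x
    rw [phG_mulVec, Matrix.one_mulVec]
    exact phL_one x
  map_mul' a b := by
    apply Subtype.ext
    apply Units.ext
    apply Matrix.mulVec_injective
    funext x
    change ((phG (a * b) : isometryGroup (ZMod 3) Qm) : GL I6 (ZMod 3)).val *ᵥ x = (((phG a : isometryGroup (ZMod 3) Qm) : GL I6 (ZMod 3)).val * ((phG b : isometryGroup (ZMod 3) Qm) : GL I6 (ZMod 3)).val) *ᵥ x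
    rw [← Matrix.mulVec_mulVec, phG_mulVec, phG_mulVec, phG_mulVec]
    exact phL_mul _ b.2 x

theorem Phi_mulVec (g : Stab) (x : U) : (((Phi g : isometryGroup (ZMod 3) Qm) : GL I6 (ZMod 3)) : Matrix I6 I6 (ZMod 3)) *ᵥ x = phL ((g : W) : G7) x :=
  phG_mulVec g x

/-! ### Spinor norm: the reflection in `v0` is not in `W` -/

/-- Reflection. -/
noncomputable abbrev RR (c : V) : G7 := rG Q7 c

theorem RR_mem {c : V} (hc : ip c c = 1) : RR c ∈ W := by
  refine Subgroup.subset_closure ⟨c, ?_, rG_val Q7 c⟩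
  rw [Q7_apply, hc]

theorem sn_W {g : G7} (hg : g ∈ W) : sn Q7 ((toIso Q7 g : isoGroup Q7) : V ≃ₗ[ZMod 3] V) = 0 := by
  have hs : ∀ x ∈ reflectionsOfNorm (⇑Q7) (1 : ZMod 3), ∀ y : G7, sn Q7 ((toIso Q7 y : isoGroup Q7) : V ≃ₗ[ZMod 3] V) = 0 → sn Q7 ((toIso Q7 (x * y) : isoGroup Q7) : V ≃ₗ[ZMod 3] V) = 0 := by
    rintro x ⟨c, hc, hx⟩ y hy
    have hxe : x = rG Q7 c := eq_rG_of_val hx
    subst hxe
    rw [map_mul]
    show sn Q7 (((toIso Q7 (rG Q7 c) : isoGroup Q7) : V ≃ₗ[ZMod 3] V) * ((toIso Q7 y : isoGroup Q7) : V ≃ₗ[ZMod 3] V)) = 0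
    rw [toIso_rG, sn_refl_mul nondeg (toIso Q7 y).2 (by rw [hc]; exact one_ne_zero), hy, hc, sqc_one, add_zero]
  induction hg using Subgroup.closure_induction_left with
  | one =>
    rw [map_one]
    exact sn_one nondeg
  | mul_left x hx y hy ih => exact hs x hx y ih
  | inv_mul_cancel x hx y hy ih =>
    obtain ⟨c, hc, hx'⟩ := hx
    have hxe : x = rG Q7 c := eq_rG_of_val hx'
    have hinv : x⁻¹ = x := by rw [hxe, rG_inv]
    rw [hinv]
    exact hs x ⟨c, hc, hx'⟩ y ih

theorem Q7_v0 : Q7 v0 = -1 := by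
  rw [Q7_apply, ip_v0_v0]

theorem not_sq : ¬ IsSquare (-1 : ZMod 3) := by decide

theorem RR_v0_not_mem : RR v0 ∉ W := by
  intro h
  have h1 := sn_W h
  rw [toIso_rG] at h1
  have h2 := sn_refl_mul (Q := Q7) nondeg (g := 1) (one_mem _) (v := v0) (by rw [Q7_v0]; decide)
  rw [mul_one, h1, sn_one nondeg, add_zero, Q7_v0, sqc_eq_one_iff.mpr not_sq] at h2
  exact one_ne_zero h2.symm

theorem act_RR_v0 (x : V) : act (RR v0) x = x - ip v0 x • v0 := by
  show ((rG Q7 v0 : GL (Fin 7) (ZMod 3)) : Matrix (Fin 7) (Fin 7) (ZMod 3)) *ᵥ x = _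
  rw [rG_mulVec, refl_apply, Q7_v0, polar_Q7, ip_comm x v0]
  congr 2
  simp

theorem act_RR (c : V) (hc : ip c c = 1) (x : V) : act (RR c) x = rv c x := by
  show ((rG Q7 c : GL (Fin 7) (ZMod 3)) : Matrix (Fin 7) (Fin 7) (ZMod 3)) *ᵥ x = _
  rw [rG_val, refl_mulVec hc]

/-! ### Index two -/

theorem conj_mem (h : G7) {c : V} (hc : ip c c = 1) : h * RR c * h⁻¹ ∈ W := by
  rw [conj_rG]
  apply RR_mem
  show ip (act h c) (act h c) = 1
  rw [ip_act, hc]

theorem lemA {a b : V} (ha : ip a a = -1) (hb : ip b b = -1) (hab : ip a b = 0) : RR a * RR b ∈ W := by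
  have hc : ip (a - b) (a - b) = 1 := by
    have e : a - b = a + (-b) := sub_eq_add_neg a b
    have h1 : ip (a - b) (a - b) = ip a a + ip b b - ip a b - ip b a := by
      simp only [ip, Pi.sub_apply]
      ring
    rw [h1, ha, hb, ip_comm b a, hab]
    decide
  have hcb : act (RR (a - b)) a = b := by
    rw [act_RR _ hc, rv]
    have h1 : ip (a - b) a = -1 := by
      have : ip (a - b) a = ip a a - ip b a := by
        simp only [ip, Pi.sub_apply]
        ring
      rw [this, ha, ip_comm b a, hab, sub_zero]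
    rw [h1]
    simp
  have h2 : RR (a - b) * RR a * (RR (a - b))⁻¹ = RR b := by
    rw [conj_rG]
    show rG Q7 (act (RR (a - b)) a) = _
    rw [hcb]
  have h3 : RR a * RR b = (RR a * RR (a - b) * (RR a)⁻¹) * RR (a - b) := by
    rw [← h2, rG_inv, rG_inv]
    group
  rw [h3]
  exact mul_mem (conj_mem _ hc) (RR_mem hc)

theorem chk : ∀ a0 a1 a2 a3 a4 a5 a6 : ZMod 3, a0 * a0 + a1 * a1 + a2 * a2 + a3 * a3 + a4 * a4 + a5 * a5 - a6 * a6 = -1 →
    a0 + a1 = 0 ∨ a6 = 0 ∨ a3 + a4 + a5 - a6 = 0 ∨ a3 + a4 + a5 - 2 * a6 = 0 ∨ a2 + a4 + 2 * a5 - a6 = 0 ∨ a2 + a4 + 2 * a5 - 2 * a6 = 0 := by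
  decide +kernel

theorem exists_w (x : V) (hx : ip x x = -1) : ip v0 x = 0 ∨ ∃ w : V, ip w w = -1 ∧ ip w v0 = 0 ∧ ip w x = 0 := by
  rcases chk (x 0) (x 1) (x 2) (x 3) (x 4) (x 5) (x 6) hx with h | h | h | h | h | h
  · left
    rw [ip_v0, h]
  · refine Or.inr ⟨![0, 0, 0, 0, 0, 0, 1], by decide, by decide, ?_⟩
    simp [ip, h]
  · refine Or.inr ⟨![0, 0, 0, 1, 1, 1, 1], by decide, by decide, ?_⟩
    simp [ip]
    linear_combination h
  · refine Or.inr ⟨![0, 0, 0, 1, 1, 1, 2], by decide, by decide, ?_⟩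
    simp [ip]
    linear_combination h
  · refine Or.inr ⟨![0, 0, 1, 0, 1, 2, 1], by decide, by decide, ?_⟩
    simp [ip]
    linear_combination h
  · refine Or.inr ⟨![0, 0, 1, 0, 1, 2, 2], by decide, by decide, ?_⟩
    simp [ip]
    linear_combination h

theorem hT {u : V} (hu : ip u u = -1) : RR u * RR v0 ∈ W := by
  rcases exists_w u hu with h | ⟨w, h1, h2, h3⟩
  · exact lemA hu ip_v0_v0 (by rw [ip_comm, h])
  · have e : RR u * RR v0 = (RR u * RR w) * (RR w * RR v0) := by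
      have : RR w * RR w = 1 := rG_mul_self _ _
      calc RR u * RR v0 = RR u * (RR w * RR w) * RR v0 := by rw [this, mul_one]
        _ = _ := by group
    rw [e]
    exact mul_mem (lemA hu h1 (by rw [ip_comm, h3])) (lemA h1 ip_v0_v0 h2)

theorem nz (a : ZMod 3) (h : a ≠ 0) : a = 1 ∨ a = -1 := by
  revert a
  decide

theorem index2 (g : G7) : g ∈ W ∨ RR v0 * g ∈ W := by
  have h2 : Fintype.card (ZMod 3) ≠ 2 ∨ Fintype.card (Fin 7) ≠ 4 := Or.inr (by simp)
  induction g using word_induction Q7 nondeg h2 with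
  | h1 => exact Or.inl (one_mem _)
  | hm u g hu ih =>
    have hrr : RR v0 * RR v0 = 1 := rG_mul_self _ _
    rw [Q7_apply] at hu
    rcases nz _ hu with h | h
    · rcases ih with ih | ih
      · exact Or.inl (mul_mem (RR_mem h) ih)
      · refine Or.inr ?_
        have e : RR v0 * (RR u * g) = (RR v0 * RR u * (RR v0)⁻¹) * (RR v0 * g) := by group
        rw [e]
        exact mul_mem (conj_mem _ h) ih
    · rcases ih with ih | ih
      · refine Or.inr ?_
        have e : RR v0 * (RR u * g) = (RR u * RR v0)⁻¹ * g := by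
          rw [_root_.mul_inv_rev, rG_inv, rG_inv]
          group
        rw [e]
        exact mul_mem (inv_mem (hT h)) ih
      · refine Or.inl ?_
        have e : RR u * g = (RR u * RR v0) * (RR v0 * g) := by
          calc RR u * g = RR u * (RR v0 * RR v0) * g := by rw [hrr, mul_one]
            _ = _ := by group
        rw [e]
        exact mul_mem (hT h) ih

/-! ### Bijectivity -/

theorem act_ext {g h : G7} (H : ∀ x, act g x = act h x) : g = h := by
  apply Subtype.ext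
  apply Units.ext
  apply Matrix.mulVec_injective
  funext x
  exact H x

theorem Phi_inj : Function.Injective Phi := by
  rw [injective_iff_map_eq_one]
  intro g hg
  have h1 : ∀ x, phL ((g : W) : G7) x = x := by
    intro x
    rw [← Phi_mulVec, hg]
    show ((1 : GL I6 (ZMod 3)) : Matrix I6 I6 (ZMod 3)) *ᵥ x = x
    simp
  have h2 : ∀ x, act ((g : W) : G7) (iot x) = iot x := by
    intro x
    rw [← iot_phL g.2, h1]
  have h3 : ∀ y, act ((g : W) : G7) y = act ((g : W) : G7) (iot (prj y)) + (- ip v0 y) • act ((g : W) : G7) v0 := by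
    intro y
    rw [← act_smul', ← act_add', ← y_eq]
  rcases g.2 with h | h
  · have h4 : ((g : W) : G7) = 1 := by
      apply act_ext
      intro y
      rw [act_one, h3, h2, h, ← y_eq]
    apply Subtype.ext
    apply Subtype.ext
    exact h4
  · exfalso
    have h4 : ((g : W) : G7) = RR v0 := by
      apply act_ext
      intro y
      rw [act_RR_v0, h3, h2, h, iot_prj, smul_neg, neg_smul, neg_neg]
      funext i
      simp only [Pi.add_apply, Pi.sub_apply, Pi.smul_apply, smul_eq_mul]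
      linear_combination (ip v0 y * v0 i) * three0
    apply RR_v0_not_mem
    rw [← h4]
    exact (g : W).2

/-- The extension of an isometry of the elliptic form. -/
noncomputable def fL (h : isometryGroup (ZMod 3) Qm) : V →ₗ[ZMod 3] V :=
  iot ∘ₗ (Matrix.mulVecLin ((h : GL I6 (ZMod 3)) : Matrix I6 I6 (ZMod 3))) ∘ₗ prj - (LinearMap.toSpanSingleton (ZMod 3) V v0) ∘ₗ ((LinearMap.proj 0 : V →ₗ[ZMod 3] ZMod 3) + (LinearMap.proj 1 : V →ₗ[ZMod 3] ZMod 3))

theorem fL_apply (h : isometryGroup (ZMod 3) Qm) (y : V) :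
    fL h y = iot (((h : GL I6 (ZMod 3)) : Matrix I6 I6 (ZMod 3)) *ᵥ prj y) + (- ip v0 y) • v0 := by
  rw [ip_v0]
  simp [fL, sub_eq_add_neg]
  rw [← neg_smul]
  congr 1
  ring

/-- The action on the six dimensional space. -/
noncomputable def actU (h : isometryGroup (ZMod 3) Qm) (x : U) : U := ((h : GL I6 (ZMod 3)) : Matrix I6 I6 (ZMod 3)) *ᵥ x

theorem actU_mul_inv (h : isometryGroup (ZMod 3) Qm) (x : U) : actU h (actU h⁻¹ x) = x := by
  show ((h : GL I6 (ZMod 3)) : Matrix I6 I6 (ZMod 3)) *ᵥ ((((h⁻¹ : isometryGroup (ZMod 3) Qm) : GL I6 (ZMod 3)) : Matrix I6 I6 (ZMod 3)) *ᵥ x) = x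
  rw [Matrix.mulVec_mulVec]
  have : ((h : GL I6 (ZMod 3)) : Matrix I6 I6 (ZMod 3)) * (((h⁻¹ : isometryGroup (ZMod 3) Qm) : GL I6 (ZMod 3)) : Matrix I6 I6 (ZMod 3)) = ((h * h⁻¹ : isometryGroup (ZMod 3) Qm) : GL I6 (ZMod 3)) := rfl
  rw [this, mul_inv_cancel]
  simp

theorem fL_fL (h : isometryGroup (ZMod 3) Qm) (y : V) : fL h (fL h⁻¹ y) = y := by
  rw [fL_apply, fL_apply h⁻¹, map_add, map_smul, prj_iot, prj_v0, smul_zero, add_zero]
  have h1 : ip v0 (iot (((h⁻¹ : isometryGroup (ZMod 3) Qm) : GL I6 (ZMod 3)) *ᵥ prj y) + (- ip v0 y) • v0) = ip v0 y := by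
    rw [ip_add_right, ip_smul_right, ip_v0_iot, ip_v0_v0]
    ring
  rw [h1]
  have h2 := actU_mul_inv h (prj y)
  unfold actU at h2
  rw [h2]
  exact (y_eq y).symm

theorem Q7_fL (h : isometryGroup (ZMod 3) Qm) (y : V) : Q7 (fL h y) = Q7 y := by
  rw [fL_apply, Q7_iot_add, Q7_eq y, (mem_isometryGroup_iff _ _).mp h.2]
  ring

theorem fL_fL' (h : isometryGroup (ZMod 3) Qm) (y : V) : fL h⁻¹ (fL h y) = y := by
  have := fL_fL h⁻¹ y
  rwa [inv_inv] at this

/-- The extension as an isometry. -/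
noncomputable def fG (h : isometryGroup (ZMod 3) Qm) : G7 :=
  ⟨mkU (fL h) (fL h⁻¹) (fL_fL h) (fL_fL' h),
    (mem_isometryGroup_iff _ _).mpr (fun x => by rw [mkU_mulVec, Q7_fL])⟩

theorem act_fG (h : isometryGroup (ZMod 3) Qm) (y : V) : act (fG h) y = fL h y :=
  mkU_mulVec (fL h) (fL h⁻¹) (fL_fL h) (fL_fL' h) y

theorem fG_v0 (h : isometryGroup (ZMod 3) Qm) : act (fG h) v0 = v0 := by
  rw [act_fG, fL_apply, prj_v0, ip_v0_v0, Matrix.mulVec_zero, map_zero, zero_add, neg_neg, one_smul]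

theorem fG_iot (h : isometryGroup (ZMod 3) Qm) (x : U) : act (fG h) (iot x) = iot (((h : GL I6 (ZMod 3)) : Matrix I6 I6 (ZMod 3)) *ᵥ x) := by
  rw [act_fG, fL_apply, prj_iot, ip_v0_iot]
  simp

theorem Ln_fG (h : isometryGroup (ZMod 3) Qm) : Ln (fG h) := Or.inl (fG_v0 h)

theorem Ln_RR : Ln (RR v0) := by
  refine Or.inr ?_
  rw [act_RR_v0, ip_v0_v0]
  funext i
  fin_cases i <;> simp [v0] <;> decide

theorem Phi_surj : Function.Surjective Phi := by
  intro h
  rcases index2 (fG h) with hW | hW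
  · refine ⟨⟨⟨fG h, hW⟩, Ln_fG h⟩, ?_⟩
    apply Subtype.ext
    apply Units.ext
    apply Matrix.mulVec_injective
    funext x
    have := Phi_mulVec ⟨⟨fG h, hW⟩, Ln_fG h⟩ x
    refine this.trans ?_
    show prj (act (fG h) (iot x)) = _
    rw [fG_iot, prj_iot]
  · refine ⟨⟨⟨RR v0 * fG h, hW⟩, Ln_mul Ln_RR (Ln_fG h)⟩, ?_⟩
    apply Subtype.ext
    apply Units.ext
    apply Matrix.mulVec_injective
    funext x
    have := Phi_mulVec ⟨⟨RR v0 * fG h, hW⟩, Ln_mul Ln_RR (Ln_fG h)⟩ x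
    refine this.trans ?_
    show prj (act (RR v0 * fG h) (iot x)) = _
    rw [act_mul, fG_iot, act_RR_v0, ip_v0_iot, zero_smul, sub_zero, prj_iot]

/-- **The stabilizer of the line of `v0` in `W` is the full isometry group of the elliptic form.** -/
theorem stab_iso : Nonempty (Stab ≃* isometryGroup (ZMod 3) (quadFormMinus 2 (ZMod 3) 0 1)) :=
  ⟨MulEquiv.ofBijective Phi ⟨Phi_inj, Phi_surj⟩⟩

end Cfsg.Agent.Lib.ThreeT.F24A7.M6
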